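import Mathlib
import Cfsg.Agent.Lib.Helper63.PHyp.Defs

/-!
PHYP (S5974) package [NUMFIX]: under (ii) or (iii) every `Valid` `j` has a `Good` pair.
-/

set_option autoImplicit false

namespace Cfsg.Agent.Lib.Helper21.PHyp

open Cfsg.Agent.Lib.Helper63.PHyp

theorem numfix_odd (d m i c j : ℕ) (hmd : m < d) (hcpos : 0 < c) (hio : Odd i)
    (hN : NumOdd d m i c) (hval : Valid d i c j) : ∃ j' e, Good d m i c j j' e := by
  obtain ⟨hj1, hjn, -⟩ := hval
  obtain ⟨-, hcm, hlk⟩ := hN
  have hmq : c * (m / c) + m % c = m := Nat.div_add_mod m c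
  have hl : m % c < c := Nat.mod_lt _ hcpos
  have hnJ : c * (2 * d / c) + (2 * d) % c = 2 * d := Nat.div_add_mod (2 * d) c
  have hjJ : j ≤ 2 * d / c := (Nat.le_div_iff_mul_le hcpos).2 (by rw [mul_comm]; exact hjn)
  have htau : ∀ x, Tau i x := fun x => Or.inl hio
  generalize m / c = q at *
  generalize m % c = l at *
  generalize 2 * d / c = J at *
  generalize 2 * d % c = k at *
  rcases lt_or_ge j q with hjq | hjq
  · have hP1 : c * j + c ≤ c * q := by
      have := Nat.mul_le_mul_left c (Nat.succ_le_of_lt hjq)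
      rwa [Nat.mul_succ] at this
    refine ⟨j, m - c * j, ?_⟩
    unfold Good
    exact ⟨le_refl _, by omega, by omega, fun _ => htau _,
      fun _ _ => ⟨fun _ => htau _, fun _ => htau _⟩⟩
  · refine ⟨q, l, ?_⟩
    unfold Good
    refine ⟨hjq, by omega, ?_, fun _ => htau _, fun _ _ => ⟨fun _ => htau _, fun _ => htau _⟩⟩
    rcases Nat.lt_or_ge j J with h | h
    · have := Nat.mul_le_mul_left c (Nat.succ_le_of_lt h)
      rw [Nat.mul_succ] at this
      omega
    · have hjeq : j = J := le_antisymm hjJ h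
      rw [hjeq]; omega

theorem numfix_even (d m c j : ℕ) (hmd : m < d) (hcpos : 0 < c)
    (hce : Even c) (hNE : NumEven d m c c) (hval : Valid d c c j) :
    ∃ j' e, Good d m c c j j' e := by
  obtain ⟨hj1, hjn, hjt⟩ := hval
  obtain ⟨-, hNE⟩ := hNE
  have hmq : c * (m / c) + m % c = m := Nat.div_add_mod m c
  have hl : m % c < c := Nat.mod_lt _ hcpos
  have hnJ : c * (2 * d / c) + (2 * d) % c = 2 * d := Nat.div_add_mod (2 * d) c
  have hk : (2 * d) % c < c := Nat.mod_lt _ hcpos
  have htau : ∀ x, Tau c x ↔ Even x := fun x =>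
    ⟨fun h => h.resolve_left (Nat.not_odd_iff_even.2 hce), Or.inr⟩
  have hjJ : j ≤ 2 * d / c := (Nat.le_div_iff_mul_le hcpos).2 (by rw [mul_comm]; exact hjn)
  have hB2 : (2 * d) % c = m % c →
      (2 * d + m - 2 * ((2 * d) % c)) / c = 2 * d / c + m / c := by
    intro h
    have : 2 * d + m - 2 * ((2 * d) % c) = c * (2 * d / c + m / c) := by
      rw [mul_add]; omega
    rw [this, Nat.mul_div_cancel_left _ hcpos]
  have hjt' : c * j = 2 * d → j % 2 = 0 := fun h => Nat.even_iff.1 ((htau j).1 (hjt h))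
  have hNE' : ((2 * d) % c = 0 ∧ ((2 * d / c) % 2 = 1 ∨ (m % c = 0 ∧ (m / c) % 2 = 0))) ∨
      (c ≤ m ∧ ((m % c < (2 * d) % c ∧ 0 < m % c) ∨
        ((2 * d) % c = m % c ∧ 0 < m % c ∧ (2 * d / c + m / c) % 2 = 0) ∨
        (0 < (2 * d) % c ∧ m % c = 0 ∧ (m / c) % 2 = 0))) := by
    rcases hNE with ⟨h1, h2 | ⟨h2, h3⟩⟩ | ⟨h1, ⟨h2, h3⟩ | ⟨h2, h3, h4⟩ | ⟨h2, h3, h4⟩⟩
    · exact Or.inl ⟨h1, Or.inl (Nat.odd_iff.1 h2)⟩
    · exact Or.inl ⟨h1, Or.inr ⟨h2, Nat.even_iff.1 h3⟩⟩
    · exact Or.inr ⟨h1, Or.inl ⟨h2, h3⟩⟩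
    · exact Or.inr ⟨h1, Or.inr (Or.inl ⟨h2, h3, by rw [← hB2 h2]; exact Nat.even_iff.1 h4⟩)⟩
    · exact Or.inr ⟨h1, Or.inr (Or.inr ⟨h2, h3, Nat.even_iff.1 h4⟩)⟩
  clear hNE hB2 hjt
  generalize m / c = q at *
  generalize m % c = l at *
  generalize 2 * d / c = J at *
  generalize 2 * d % c = k at *
  have hP2 : j < J → c * j + c ≤ c * J := fun h => by
    have := Nat.mul_le_mul_left c (Nat.succ_le_of_lt h)
    rwa [Nat.mul_succ] at this
  have hPJ : j = J → c * j = c * J := fun h => by rw [h]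
  rcases lt_or_ge j q with hjq | hjq
  · have hP1 : c * j + c ≤ c * q := by
      have := Nat.mul_le_mul_left c (Nat.succ_le_of_lt hjq)
      rwa [Nat.mul_succ] at this
    refine ⟨j, m - c * j, ?_⟩
    unfold Good
    exact ⟨le_refl _, by omega, by omega, fun h => by omega, fun h => by omega⟩
  · have hqj : c * q ≤ c * j := Nat.mul_le_mul_left c hjq
    by_cases hbad : l = 0 ∧ q % 2 = 1
    · obtain ⟨hl0, hqo⟩ := hbad
      have hq1 : 1 ≤ q := by omega
      have hP3 : c * (q - 1) + c = c * q := by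
        rw [← Nat.mul_succ, Nat.succ_eq_add_one, Nat.sub_add_cancel hq1]
      have hjltJ : j < J := by
        rcases Nat.lt_or_ge j J with h | h
        · exact h
        · exfalso
          have hjeq : j = J := le_antisymm hjJ h
          have := hPJ hjeq
          omega
      have hP2' := hP2 hjltJ
      refine ⟨q - 1, c, ?_⟩
      unfold Good
      refine ⟨by omega, by omega, by omega, fun h => by omega, fun h hc0 => ?_⟩
      rw [htau, htau, Nat.even_iff, Nat.even_iff]
      have hk0 : k = 0 := by omega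
      have hjJ1 : j + 1 = J := by
        have h1 : c * (j + 1) = c * J := by rw [Nat.mul_succ]; omega
        exact Nat.eq_of_mul_eq_mul_left hcpos h1
      constructor <;> intro _ <;> omega
    · refine ⟨q, l, ?_⟩
      unfold Good
      refine ⟨hjq, by omega, ?_, ?_, ?_⟩
      · rcases Nat.lt_or_ge j J with h | h
        · have := hP2 h
          omega
        · have hjeq : j = J := le_antisymm hjJ h
          have := hPJ hjeq
          omega
      · intro h0
        rw [htau, Nat.even_iff]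
        omega
      · intro h he
        rw [htau, htau, Nat.even_iff, Nat.even_iff]
        rcases Nat.lt_or_ge j J with h' | h'
        · have := hP2 h'
          omega
        · have hjeq : j = J := le_antisymm hjJ h'
          have := hPJ hjeq
          constructor <;> intro _ <;> omega

theorem pkgNumFix : PkgNumFix := by
  intro d m i c hd hm2 hmev hmd hi hc hnum j hval
  by_cases hie : Even i
  · rw [if_pos hie] at hc
    subst hc
    have hcpos : 0 < c := hi
    rcases hnum with hN | hN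
    · exact absurd hie (Nat.not_even_iff_odd.2 hN.1)
    · exact numfix_even d m c j hmd hcpos hie hN hval
  · rw [if_neg hie] at hc
    have hio : Odd i := Nat.not_even_iff_odd.1 hie
    have hcpos : 0 < c := by omega
    rcases hnum with hN | hN
    · exact numfix_odd d m i c j hmd hcpos hio hN hval
    · exact absurd hN.1 hie

end Cfsg.Agent.Lib.Helper21.PHyp
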